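import Groth.Agent.Lib.GrMap12.Split
import Groth.Agent.Lib.ExtThick23.Basic
import Groth.Agent.Lib.ConormalBC19.Basic
import Groth.Agent.Lib.PushThick28.Basic
import Groth.Agent.Lib.Omega12.Transitive
import Groth.Agent.Lib.GrMap12.Basic
import Groth.Prelude.Def_Omega3

/-!
# Morphisms out of square zero thickenings with prescribed differential
-/

set_option autoImplicit false
set_option linter.style.haveILetI false
set_option backward.isDefEq.respectTransparency false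
set_option backward.isDefEq.respectTransparency.types false

universe u

open CategoryTheory AlgebraicGeometry

namespace Groth.Agent.RibbonExt3

/-- `a` is the differential of `g` seen from the source of `i`. -/
def IsDiff {S : Scheme.{u}} {D C X : Scheme.{u}} (i : D ⟶ C) {pC : C ⟶ S} {Ω₁ : C.Modules} (d₁ : OmegaSh.Der pC Ω₁)
    (f : D ⟶ X) {pX : X ⟶ S} {Ω₃ : X.Modules} (d₃ : OmegaSh.Der pX Ω₃) (g : C ⟶ X)
    (a : (Scheme.Modules.pullback f).obj Ω₃ ⟶ (Scheme.Modules.pullback i).obj Ω₁) : Prop :=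
  ∀ (U : X.Opens) (b : Γ(X, U)) (h : i ⁻¹ᵁ (g ⁻¹ᵁ U) ≤ f ⁻¹ᵁ U),
    M1.mres ((Scheme.Modules.pullback i).obj Ω₁) h (a.app (f ⁻¹ᵁ U) (OmegaSh.pullSect f Ω₃ U (d₃.app U b))) =
      OmegaSh.pullSect i Ω₁ (g ⁻¹ᵁ U) (d₁.app (g ⁻¹ᵁ U) (g.app U b))

variable {S : Scheme.{u}} {D C X Y : Scheme.{u}} {i : D ⟶ C} {j : D ⟶ X} {f : D ⟶ Y}
  {pC : C ⟶ S} {Ω₁ : C.Modules} {d₁ : OmegaSh.Der pC Ω₁}
  {pX : X ⟶ S} {Ω₂ : X.Modules} {d₂ : OmegaSh.Der pX Ω₂}
  {pY : Y ⟶ S} {Ω₃ : Y.Modules} {d₃ : OmegaSh.Der pY Ω₃}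

theorem IsDiff.id (i : D ⟶ C) (d₁ : OmegaSh.Der pC Ω₁) : IsDiff i d₁ i d₁ (𝟙 C) (𝟙 _) := fun U b h =>
  ConcreteCategory.congr_hom (((Scheme.Modules.pullback i).obj Ω₁).presheaf.map_id _) _

theorem IsDiff.comp {g : C ⟶ X} {g' : X ⟶ Y} (hg : i ≫ g = j) (hg' : j ≫ g' = f)
    {a : (Scheme.Modules.pullback j).obj Ω₂ ⟶ (Scheme.Modules.pullback i).obj Ω₁}
    {a' : (Scheme.Modules.pullback f).obj Ω₃ ⟶ (Scheme.Modules.pullback j).obj Ω₂}
    (ha : IsDiff i d₁ j d₂ g a) (ha' : IsDiff j d₂ f d₃ g' a') : IsDiff i d₁ f d₃ (g ≫ g') (a' ≫ a) := by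
  intro U b h
  have h' : j ⁻¹ᵁ (g' ⁻¹ᵁ U) ≤ f ⁻¹ᵁ U := by subst hg'; exact le_rfl
  have h'' : i ⁻¹ᵁ (g ⁻¹ᵁ (g' ⁻¹ᵁ U)) ≤ j ⁻¹ᵁ (g' ⁻¹ᵁ U) := by subst hg; exact le_rfl
  have e := ha (g' ⁻¹ᵁ U) (g'.app U b) h''
  rw [← ha' U b h', M1.app_mres, M1.mres_mres] at e
  exact e

theorem IsDiff.unique {g : C ⟶ X} (hg : i ≫ g = j) (hd₂ : OmegaSh.IsUniversal d₂)
    {a a' : (Scheme.Modules.pullback j).obj Ω₂ ⟶ (Scheme.Modules.pullback i).obj Ω₁}
    (ha : IsDiff i d₁ j d₂ g a) (ha' : IsDiff i d₁ j d₂ g a') : a = a' := by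
  subst hg
  let adj := Scheme.Modules.pullbackPushforwardAdjunction (i ≫ g)
  refine (adj.homEquiv _ _).injective (Omega12.hom_ext_der _ hd₂ fun U s => ?_)
  have eadj : ∀ (x : (Scheme.Modules.pullback (i ≫ g)).obj Ω₂ ⟶ (Scheme.Modules.pullback i).obj Ω₁),
      (adj.homEquiv _ _ x).app U (d₂.app U s) =
        x.app ((i ≫ g) ⁻¹ᵁ U) (OmegaSh.pullSect (i ≫ g) Ω₂ U (d₂.app U s)) :=
    fun x => by rw [Adjunction.homEquiv_unit]; rfl
  rw [eadj, eadj]
  have e1 := (ha U s le_rfl).trans (ha' U s le_rfl).symm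
  have hid : ∀ t, M1.mres ((Scheme.Modules.pullback i).obj Ω₁) (le_refl (i ⁻¹ᵁ (g ⁻¹ᵁ U))) t = t :=
    fun t => ConcreteCategory.congr_hom (((Scheme.Modules.pullback i).obj Ω₁).presheaf.map_id _) t
  exact (hid _).symm.trans (e1.trans (hid _))

theorem exists_diff {g : C ⟶ X} (hg : i ≫ g = j) (hgk : g ≫ pX = pC) (hd₂ : OmegaSh.IsUniversal d₂) :
    ∃ a, IsDiff i d₁ j d₂ g a := by
  subst hg
  have hsq' : pC ≫ 𝟙 _ = g ≫ pX := by rw [hgk, Category.comp_id]
  let adj := Scheme.Modules.pullbackPushforwardAdjunction (i ≫ g)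
  let ν : (Scheme.Modules.pushforward g).obj Ω₁ ⟶
      (Scheme.Modules.pushforward (i ≫ g)).obj ((Scheme.Modules.pullback i).obj Ω₁) :=
    (Scheme.Modules.pushforward g).map ((Scheme.Modules.pullbackPushforwardAdjunction i).unit.app Ω₁) ≫
      (Scheme.Modules.pushforwardComp i g).hom.app _
  obtain ⟨β, hβ, -⟩ := hd₂ _ ((Omega12.pushDer hsq' d₁).postcomp ν.val)
  refine ⟨(adj.homEquiv _ _).symm β, fun U s h => ?_⟩
  refine (ConcreteCategory.congr_hom (((Scheme.Modules.pullback i).obj Ω₁).presheaf.map_id _) _).trans ?_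
  have eadj : ∀ (x : (Scheme.Modules.pullback (i ≫ g)).obj Ω₂ ⟶ (Scheme.Modules.pullback i).obj Ω₁),
      (adj.homEquiv _ _ x).app U (d₂.app U s) =
        x.app ((i ≫ g) ⁻¹ᵁ U) (OmegaSh.pullSect (i ≫ g) Ω₂ U (d₂.app U s)) :=
    fun x => by rw [Adjunction.homEquiv_unit]; rfl
  show ((adj.homEquiv _ _).symm β).app ((i ≫ g) ⁻¹ᵁ U) _ = _
  rw [← eadj, Equiv.apply_symm_apply]
  exact congrArg (fun E => OmegaSh.Der.app E U s) hβ

theorem kerLift_of_shortExact {D : Scheme.{u}} {L N M : D.Modules} {φ : L ⟶ N} {c : N ⟶ M} {hw : φ ≫ c = 0}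
    (hS : (CategoryTheory.ShortComplex.mk φ c hw).ShortExact) (W : D.Opens) (t : Γ(N, W)) (ht : c.app W t = 0) :
    ∃ l, φ.app W l = t := by
  haveI := hS.mono_f
  let e := hS.fIsKernel.conePointUniqueUpToIso (CategoryTheory.Limits.kernelIsKernel c)
  refine ⟨e.inv.app W (OmegaSh.kerLift c W t ht), ?_⟩
  have he : e.inv ≫ φ = CategoryTheory.Limits.kernel.ι c :=
    CategoryTheory.Limits.IsLimit.conePointUniqueUpToIso_inv_comp _ _ CategoryTheory.Limits.WalkingParallelPair.zero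
  refine Eq.trans ?_ (OmegaSh.ι_kerLift c W t ht)
  exact congrArg (fun m : CategoryTheory.Limits.kernel c ⟶ N => m.app W (OmegaSh.kerLift c W t ht)) he

theorem app_injective_of_mono {D : Scheme.{u}} {L N : D.Modules} (φ : L ⟶ N) [Mono φ] (W : D.Opens) (l : Γ(L, W))
    (hl : φ.app W l = 0) : l = 0 := by
  refine (OmegaSh.ι_kerLift φ W l hl).symm.trans ?_
  exact congrArg (fun m : CategoryTheory.Limits.kernel φ ⟶ L => m.app W (OmegaSh.kerLift φ W l hl))
    (CategoryTheory.Limits.kernel.ι_of_mono φ)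

/-- A morphism out of a ribbon from a lift of the differential. -/
theorem exists_extension {k : Type u} [Field k] {D C : Scheme.{u}} (i : D ⟶ C) [IsClosedImmersion i]
    (hi : i.ker * i.ker = ⊥) (pC : C ⟶ Spec (CommRingCat.of k))
    (Ω₁ : C.Modules) (d₁ : OmegaSh.Der pC Ω₁) (Ω₂ : D.Modules) (d₂ : OmegaSh.Der (i ≫ pC) Ω₂)
    (φ : Omega.conormal i ⟶ (Scheme.Modules.pullback i).obj Ω₁) (hφ : OmegaSh.IsConormalDiff i d₁ φ)
    (c : (Scheme.Modules.pullback i).obj Ω₁ ⟶ Ω₂) (hc : OmegaSh.IsDiffCompat i d₁ d₂ c)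
    (hw : φ ≫ c = 0) (hS : (CategoryTheory.ShortComplex.mk φ c hw).ShortExact)
    (X : Scheme.{u}) (pX : X ⟶ Spec (CommRingCat.of k)) (f : D ⟶ X) (hf : f ≫ pX = i ≫ pC)
    (Ω₃ : X.Modules) (d₃ : OmegaSh.Der pX Ω₃)
    (df : (Scheme.Modules.pullback f).obj Ω₃ ⟶ Ω₂) (hdf : OmegaSh.IsDiffCompat f d₃ d₂ df)
    (s : (Scheme.Modules.pullback f).obj Ω₃ ⟶ (Scheme.Modules.pullback i).obj Ω₁) (hs : s ≫ c = df) :
    ∃ g : C ⟶ X, i ≫ g = f ∧ g ≫ pX = pC ∧ IsDiff i d₁ f d₃ g s := by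
  haveI := hS.mono_f
  haveI : Surjective i := PushThick28.surjective_of_nil i fun V => ⟨2, by
    rw [pow_two]
    exact congrArg (fun J : C.IdealSheafData => J.ideal V) hi⟩
  let N := (Scheme.Modules.pullback i).obj Ω₁
  have hcs : ∀ V, Function.Bijective (OmegaSh.conormalSect i V) := fun V => ExtThick23.bijective_conormalSect i hi V
  let ι := fun {V : C.Opens} (l : Γ(ClSub.idealMod i.ker, V)) => M2.idealIncl i.ker l
  have hker : ∀ {V : C.Opens} (l : Γ(ClSub.idealMod i.ker, V)), i.app V (ι l) = 0 := fun {V} l => by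
    refine ConormalBC19.app_eq_zero_of_eq (Scheme.Hom.toImage_imageι i) ?_
    rw [Scheme.Hom.comp_app, CommRingCat.comp_apply]
    show i.toImage.app _ (i.ker.subschemeι.app V (M2.idealIncl i.ker l)) = 0
    rw [M2.subschemeι_app_idealIncl, map_zero]
  let δ : ∀ V : C.Opens, Γ(C, V) → Γ(N, i ⁻¹ᵁ V) := fun V b => OmegaSh.pullSect i Ω₁ V (d₁.app V b)
  have δadd : ∀ V a b, δ V (a + b) = δ V a + δ V b := fun V a b => by
    show OmegaSh.pullSect i Ω₁ V (d₁.app V (a + b)) = _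
    rw [map_add]; exact map_add (OmegaSh.pullSect i Ω₁ V).hom _ _
  have δsub : ∀ V a b, δ V (a - b) = δ V a - δ V b := fun V a b => by
    rw [eq_sub_iff_add_eq, ← δadd, sub_add_cancel]
  have δmul : ∀ V a b, δ V (a * b) = i.app V a • δ V b + i.app V b • δ V a := fun V a b => by
    show OmegaSh.pullSect i Ω₁ V (d₁.app V (a * b)) = _
    rw [show d₁.app V (a * b) = a • d₁.app V b + b • d₁.app V a from d₁.d_mul _ _]
    refine (map_add (OmegaSh.pullSect i Ω₁ V).hom _ _).trans ?_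
    exact congrArg₂ (· + ·) (M2.pullSec_smul i Ω₁ _ _) (M2.pullSec_smul i Ω₁ _ _)
  have δres : ∀ {V W : C.Opens} (h : W ≤ V) b,
      δ W (C.presheaf.map (homOfLE h).op b) = M1.mres N (i.preimage_mono h) (δ V b) := fun {V W} h b => by
    show OmegaSh.pullSect i Ω₁ W (d₁.app W _) = _
    rw [show d₁.app W (C.presheaf.map (homOfLE h).op b) = M1.mres Ω₁ h (d₁.app V b) from d₁.d_map _ _]
    exact M1.app_mres ((Scheme.Modules.pullbackPushforwardAdjunction i).unit.app Ω₁) h _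
  let δ' : ∀ U : X.Opens, Γ(X, U) → Γ(N, f ⁻¹ᵁ U) := fun U a =>
    s.app (f ⁻¹ᵁ U) (OmegaSh.pullSect f Ω₃ U (d₃.app U a))
  have δ'add : ∀ U a b, δ' U (a + b) = δ' U a + δ' U b := fun U a b => by
    show s.app _ (OmegaSh.pullSect f Ω₃ U (d₃.app U (a + b))) = _
    rw [map_add]
    exact (congrArg _ (map_add (OmegaSh.pullSect f Ω₃ U).hom _ _)).trans (map_add _ _ _)
  have δ'mul : ∀ U a b, δ' U (a * b) = f.app U a • δ' U b + f.app U b • δ' U a := fun U a b => by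
    show s.app _ (OmegaSh.pullSect f Ω₃ U (d₃.app U (a * b))) = _
    rw [show d₃.app U (a * b) = a • d₃.app U b + b • d₃.app U a from d₃.d_mul _ _]
    refine (congrArg _ (map_add (OmegaSh.pullSect f Ω₃ U).hom _ _)).trans ((map_add _ _ _).trans ?_)
    refine congrArg₂ (· + ·) ?_ ?_
    all_goals
      refine (congrArg _ (M2.pullSec_smul f Ω₃ _ _)).trans ?_
      exact Scheme.Modules.Hom.app_smul s _ _
  have δ'res : ∀ {U U' : X.Opens} (h : U' ≤ U) a,
      δ' U' (X.presheaf.map (homOfLE h).op a) = M1.mres N (f.preimage_mono h) (δ' U a) := fun {U U'} h a => by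
    show s.app _ (OmegaSh.pullSect f Ω₃ U' (d₃.app U' _)) = _
    rw [show d₃.app U' (X.presheaf.map (homOfLE h).op a) = M1.mres Ω₃ h (d₃.app U a) from d₃.d_map _ _,
      show OmegaSh.pullSect f Ω₃ U' (M1.mres Ω₃ h (d₃.app U a)) =
        M1.mres _ (f.preimage_mono h) (OmegaSh.pullSect f Ω₃ U (d₃.app U a)) from
          M1.app_mres ((Scheme.Modules.pullbackPushforwardAdjunction f).unit.app Ω₃) h _]
    exact M1.app_mres s _ _
  let R : ∀ (U : X.Opens) (W : C.Opens) (_ : i ⁻¹ᵁ W ≤ f ⁻¹ᵁ U), Γ(X, U) → Γ(C, W) → Prop := fun U W h a b =>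
    i.app W b = f.appLE U (i ⁻¹ᵁ W) h a ∧ δ W b = M1.mres N h (δ' U a)
  have huniq : ∀ U W h a b b', R U W h a b → R U W h a b' → b = b' := by
    intro U W h a b b' hb hb'
    obtain ⟨l, hl⟩ := GrMap12.exists_idealSect_of_app_eq_zero i (b - b') (by rw [map_sub, hb.1, hb'.1, sub_self])
    have h1 : φ.app (i ⁻¹ᵁ W) (OmegaSh.conormalSect i W l) = 0 := by
      rw [hφ W l]
      show δ W (ι l) = 0
      rw [show ι l = b - b' from hl, δsub, hb.2, hb'.2, sub_self]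
    have h2 : l = 0 := (hcs W).1 ((app_injective_of_mono φ _ _ h1).trans
      (map_zero (OmegaSh.conormalSect i W).hom).symm)
    rw [← sub_eq_zero, ← hl, h2]
    exact PicH1_21.idealIncl_zero _
  have hRres : ∀ (U U' : X.Opens) (hU : U' ≤ U) (W W' : C.Opens) (hW : W' ≤ W) (h : i ⁻¹ᵁ W ≤ f ⁻¹ᵁ U)
      (h' : i ⁻¹ᵁ W' ≤ f ⁻¹ᵁ U') a b, R U W h a b →
      R U' W' h' (X.presheaf.map (homOfLE hU).op a) (C.presheaf.map (homOfLE hW).op b) := by
    intro U U' hU W W' hW h h' a b hb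
    refine ⟨?_, ?_⟩
    · refine (ConcreteCategory.congr_hom (i.naturality (homOfLE hW).op) b).trans ?_
      show D.presheaf.map _ (i.app W b) = _
      rw [hb.1, ← CategoryTheory.comp_apply, Scheme.Hom.appLE_map, ← CategoryTheory.comp_apply, Scheme.Hom.map_appLE]
    · rw [δres hW b, hb.2, δ'res hU a, M1.mres_mres, M1.mres_mres]
  have hloc : ∀ U W h a, IsAffineOpen W → ∃ b, R U W h a b := by
    intro U W h a hW
    obtain ⟨b₀, hb₀⟩ := i.app_surjective W hW (f.appLE U (i ⁻¹ᵁ W) h a)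
    have ht : c.app (i ⁻¹ᵁ W) (M1.mres N h (δ' U a) - δ W b₀) = 0 := by
      have e1 : c.app (i ⁻¹ᵁ W) (δ W b₀) = d₂.app (i ⁻¹ᵁ W) (i.app W b₀) := hc W b₀
      have e2 : c.app (i ⁻¹ᵁ W) (M1.mres N h (δ' U a)) = d₂.app (i ⁻¹ᵁ W) (f.appLE U (i ⁻¹ᵁ W) h a) := by
        rw [M1.app_mres]
        show M1.mres Ω₂ h ((s ≫ c).app (f ⁻¹ᵁ U) (OmegaSh.pullSect f Ω₃ U (d₃.app U a))) = _
        rw [hs, hdf U a]
        exact (d₂.d_map (homOfLE h).op (f.app U a)).symm
      rw [map_sub, e1, e2, hb₀, sub_self]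
    obtain ⟨l', hl'⟩ := kerLift_of_shortExact hS _ _ ht
    obtain ⟨l, rfl⟩ := (hcs W).2 l'
    rw [hφ W l] at hl'
    refine ⟨b₀ + ι l, by rw [map_add, hb₀, hker, add_zero], ?_⟩
    rw [δadd]
    show δ W b₀ + OmegaSh.pullSect i Ω₁ W (d₁.app W (OmegaSh.idealSect i.ker W l)) = _
    rw [hl', add_sub_cancel]
  -- the continuous map
  have hhom : IsHomeomorph i.base := isHomeomorph_iff_isEmbedding_surjective.2
    ⟨i.isClosedEmbedding.isEmbedding, i.surjective⟩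
  let gb : C.toTopCat ⟶ X.toTopCat :=
    TopCat.ofHom ⟨fun x => f (hhom.homeomorph.symm x), f.continuous.comp hhom.homeomorph.symm.continuous⟩
  have hgb : ∀ y : D, gb (i y) = f y := fun y => congrArg f (hhom.homeomorph.symm_apply_apply y)
  let V : X.Opens → C.Opens := fun U => (TopologicalSpace.Opens.map gb).obj U
  have hV : ∀ U, i ⁻¹ᵁ V U ≤ f ⁻¹ᵁ U := fun U y hy => by
    show f y ∈ U
    rw [← hgb]; exact hy
  have hid' : ∀ (O : X.Opens) (a : Γ(X, O)), X.presheaf.map (homOfLE (le_refl O)).op a = a :=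
    fun O a => ConcreteCategory.congr_hom (X.presheaf.map_id _) a
  have hex : ∀ (U : X.Opens) (a : Γ(X, U)), ∃ b, R U (V U) (hV U) a b := by
    intro U a
    let I := {W : C.affineOpens // W.1 ≤ V U}
    have hle : ∀ W : I, i ⁻¹ᵁ W.1.1 ≤ f ⁻¹ᵁ U := fun W => (i.preimage_mono W.2).trans (hV U)
    choose b hb using fun W : I => hloc U W.1.1 (hle W) a W.1.2
    have hcov : V U ≤ ⨆ W : I, W.1.1 := fun x hx => by
      obtain ⟨W, hW, hxW, hWU⟩ := exists_isAffineOpen_mem_and_subset (X := C) (x := x) (U := V U) hx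
      exact TopologicalSpace.Opens.mem_iSup.2 ⟨⟨⟨W, hW⟩, hWU⟩, hxW⟩
    obtain ⟨b₁, hb₁, -⟩ := C.sheaf.existsUnique_gluing' (fun W : I => W.1.1) (V U) (fun W => homOfLE W.2) hcov b
      (fun W W' => huniq U (W.1.1 ⊓ W'.1.1) ((i.preimage_mono inf_le_left).trans (hle W)) a _ _ (by
        have := hRres U U le_rfl W.1.1 (W.1.1 ⊓ W'.1.1) inf_le_left (hle W) ((i.preimage_mono inf_le_left).trans (hle W)) a _ (hb W)
        rw [hid'] at this
        exact this) (by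
        have := hRres U U le_rfl W'.1.1 (W.1.1 ⊓ W'.1.1) inf_le_right (hle W') ((i.preimage_mono inf_le_left).trans (hle W)) a _ (hb W')
        rw [hid'] at this
        exact this))
    refine ⟨b₁, ?_, ?_⟩
    · refine D.sheaf.eq_of_locally_eq' (fun W : I => i ⁻¹ᵁ W.1.1) (i ⁻¹ᵁ V U)
        (fun W => homOfLE (i.preimage_mono W.2)) (fun y hy => ?_) _ _ fun W => ?_
      · obtain ⟨W, hW⟩ := TopologicalSpace.Opens.mem_iSup.1 (hcov (show i y ∈ V U from hy))
        exact TopologicalSpace.Opens.mem_iSup.2 ⟨W, hW⟩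
      · show D.presheaf.map _ (i.app (V U) b₁) = D.presheaf.map _ (f.appLE U (i ⁻¹ᵁ V U) (hV U) a)
        refine (ConcreteCategory.congr_hom (i.naturality (homOfLE W.2).op) b₁).symm.trans ?_
        show i.app W.1.1 (C.presheaf.map _ b₁) = _
        rw [show C.presheaf.map (homOfLE W.2).op b₁ = b W from hb₁ W, (hb W).1, ← CategoryTheory.comp_apply,
          Scheme.Hom.appLE_map]
    · refine N.isSheaf.section_ext fun y hy => ?_
      obtain ⟨W, hW⟩ := TopologicalSpace.Opens.mem_iSup.1 (hcov (show i y ∈ V U from hy))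
      refine ⟨i ⁻¹ᵁ W.1.1, i.preimage_mono W.2, hW, ?_⟩
      show M1.mres N (i.preimage_mono W.2) (δ (V U) b₁) = M1.mres N (i.preimage_mono W.2) (M1.mres N (hV U) (δ' U a))
      rw [← δres W.2, show C.presheaf.map (homOfLE W.2).op b₁ = b W from hb₁ W, (hb W).2, M1.mres_mres]
  choose G hG using hex
  have hid : ∀ (O : X.Opens) (a : Γ(X, O)), X.presheaf.map (homOfLE (le_refl O)).op a = a :=
    fun O a => ConcreteCategory.congr_hom (X.presheaf.map_id _) a
  let e : ∀ U : X.Opens, Γ(X, U) →+* Γ(C, V U) := fun U =>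
    RingHom.mk' { toFun := G U
                  map_one' := by
                    refine huniq U _ _ 1 _ _ (hG U 1) ⟨by simp, ?_⟩
                    have h1 : δ (V U) 1 = 0 := by
                      have := δmul (V U) 1 1
                      rw [mul_one, map_one, one_smul] at this
                      exact left_eq_add.1 this
                    have h2 : δ' U 1 = 0 := by
                      have := δ'mul U 1 1
                      rw [mul_one, map_one, one_smul] at this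
                      exact left_eq_add.1 this
                    rw [h1, h2, map_zero]
                  map_mul' := fun a b => by
                    refine huniq U _ _ (a * b) _ _ (hG U _) ⟨by rw [map_mul, map_mul, (hG U a).1, (hG U b).1], ?_⟩
                    rw [δmul, (hG U a).2, (hG U b).2, (hG U a).1, (hG U b).1, δ'mul, map_add, M1.mres_smul,
                      M1.mres_smul]
                    rfl }
      fun a b => by
        refine huniq U _ _ (a + b) _ _ (hG U _) ⟨?_, ?_⟩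
        · show i.app _ (G U a + G U b) = _
          rw [map_add, map_add, (hG U a).1, (hG U b).1]
        · show δ _ (G U a + G U b) = _
          rw [δadd, (hG U a).2, (hG U b).2, δ'add, map_add]
  let cE : X.presheaf ⟶ (TopCat.Presheaf.pushforward CommRingCat gb).obj C.presheaf :=
    { app := fun U => CommRingCat.ofHom (e U.unop)
      naturality := fun U U' p => CommRingCat.hom_ext (RingHom.ext fun a =>
        huniq U'.unop _ (hV U'.unop) _ _ _ (hG U'.unop (X.presheaf.map p a))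
          (hRres U.unop U'.unop p.unop.le (V U.unop) (V U'.unop) (fun x hx => p.unop.le hx) (hV _) (hV _) a _ (hG _ a))) }
  let P : C.toPresheafedSpace ⟶ X.toPresheafedSpace := { base := gb, c := cE }
  have hlocal : ∀ x : C, IsLocalHom (P.stalkMap x).hom := fun x => ⟨fun t ht => by
    obtain ⟨y, rfl⟩ := i.surjective x
    obtain ⟨U, hxU, a, rfl⟩ := X.presheaf.exists_germ_eq t
    have hxV : i y ∈ V U := hxU
    have hfy : f y ∈ U := (hgb y) ▸ hxU
    have h1 : P.stalkMap (i y) (X.presheaf.germ U (gb (i y)) hxU a) = C.presheaf.germ (V U) (i y) hxV (G U a) :=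
      PresheafedSpace.stalkMap_germ_apply P U (i y) hxU a
    replace ht : IsUnit (C.presheaf.germ (V U) (i y) hxV (G U a)) := by rw [← h1]; exact ht
    have h2 := ht.map (i.stalkMap y).hom
    rw [Scheme.Hom.germ_stalkMap_apply, (hG U a).1] at h2
    have h3 : IsUnit (f.stalkMap y (X.presheaf.germ U (f y) hfy a)) := by
      rw [Scheme.Hom.germ_stalkMap_apply]
      have h4 : f.appLE U (i ⁻¹ᵁ V U) (hV U) a = D.presheaf.map (homOfLE (hV U)).op (f.app U a) := rfl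
      rwa [h4, TopCat.Presheaf.germ_res_apply] at h2
    have h5 : IsUnit (X.presheaf.germ U (f y) hfy a) := (isUnit_map_iff (f.stalkMap y).hom _).1 h3
    have key : ∀ (q q' : X) (_ : q = q') (hq : q ∈ U) (hq' : q' ∈ U),
        IsUnit (X.presheaf.germ U q' hq' a) → IsUnit (X.presheaf.germ U q hq a) := by
      rintro q q' rfl hq hq' h; exact h
    exact key _ _ (hgb y) hxU hfy h5⟩
  let g : C ⟶ X := ⟨⟨P, hlocal⟩⟩
  have hgapp : ∀ (U : X.Opens) (a : Γ(X, U)), g.app U a = G U a := fun U a => rfl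
  refine ⟨g, ?_, ?_, fun U b h => (hG U b).2.symm⟩
  · refine Scheme.Hom.ext (TopCat.hom_ext (ContinuousMap.ext fun y => hgb y)) fun U => ?_
    refine CommRingCat.hom_ext (RingHom.ext fun a => ?_)
    show D.presheaf.map _ (i.app (V U) (G U a)) = f.app U a
    rw [(hG U a).1, ← CategoryTheory.comp_apply, Scheme.Hom.appLE_map]
    simp [Scheme.Hom.appLE]
  · have hbase : ∀ x : C, pX (gb x) = pC x := fun x => by
      obtain ⟨y, rfl⟩ := i.surjective x
      rw [hgb, ← Scheme.Hom.comp_apply, hf, Scheme.Hom.comp_apply]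
    refine Scheme.Hom.ext (TopCat.hom_ext (ContinuousMap.ext hbase)) fun O => ?_
    refine CommRingCat.hom_ext (RingHom.ext fun r => ?_)
    show C.presheaf.map _ (G (pX ⁻¹ᵁ O) (pX.app O r)) = pC.app O r
    have hW : pC ⁻¹ᵁ O ≤ V (pX ⁻¹ᵁ O) := fun x hx => by
      show pX (gb x) ∈ O
      rw [hbase]; exact hx
    have h0 : i ⁻¹ᵁ (pC ⁻¹ᵁ O) ≤ f ⁻¹ᵁ (pX ⁻¹ᵁ O) := (i.preimage_mono hW).trans (hV _)
    refine huniq (pX ⁻¹ᵁ O) (pC ⁻¹ᵁ O) h0 (pX.app O r) _ _ (by
      have := hRres _ _ le_rfl _ _ hW (hV _) h0 _ _ (hG (pX ⁻¹ᵁ O) (pX.app O r))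
      rw [hid] at this
      exact this) ⟨?_, ?_⟩
    · have key : ∀ (p q : D ⟶ Spec (CommRingCat.of k)) (_ : p = q) (W : D.Opens) (e : W ≤ p ⁻¹ᵁ O) (e' : W ≤ q ⁻¹ᵁ O),
          p.appLE O W e r = q.appLE O W e' r := by rintro p q rfl W e e'; rfl
      have := key (i ≫ pC) (f ≫ pX) hf.symm ((i ≫ pC) ⁻¹ᵁ O) le_rfl h0
      rw [← Scheme.Hom.app_eq_appLE, Scheme.Hom.comp_app, Scheme.Hom.comp_appLE] at this
      exact this
    · have h1 : δ (pC ⁻¹ᵁ O) (pC.app O r) = 0 := by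
        show OmegaSh.pullSect i Ω₁ _ (d₁.app _ (pC.app O r)) = 0
        rw [show d₁.app (pC ⁻¹ᵁ O) (pC.app O r) = 0 from d₁.d_app (X := Opposite.op O) r]
        exact map_zero (OmegaSh.pullSect i Ω₁ _).hom
      have h2 : δ' (pX ⁻¹ᵁ O) (pX.app O r) = 0 := by
        show s.app _ (OmegaSh.pullSect f Ω₃ _ (d₃.app _ (pX.app O r))) = 0
        rw [show d₃.app (pX ⁻¹ᵁ O) (pX.app O r) = 0 from d₃.d_app (X := Opposite.op O) r]
        exact (congrArg _ (map_zero (OmegaSh.pullSect f Ω₃ _).hom)).trans (map_zero _)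
      rw [h1, h2, map_zero]

/-- A morphism out of a thickening is determined by its restriction and its differential. -/
theorem hom_eq_of_isDiff {k : Type u} [Field k] {D C : Scheme.{u}} (i : D ⟶ C) [IsClosedImmersion i]
    (hi : i.ker * i.ker = ⊥) (pC : C ⟶ Spec (CommRingCat.of k))
    (Ω₁ : C.Modules) (d₁ : OmegaSh.Der pC Ω₁)
    (φ : Omega.conormal i ⟶ (Scheme.Modules.pullback i).obj Ω₁) [Mono φ] (hφ : OmegaSh.IsConormalDiff i d₁ φ)
    {X : Scheme.{u}} {pX : X ⟶ Spec (CommRingCat.of k)} {f : D ⟶ X} {Ω₃ : X.Modules} {d₃ : OmegaSh.Der pX Ω₃}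
    {g₁ g₂ : C ⟶ X} (hb₁ : i ≫ g₁ = f) (hb₂ : i ≫ g₂ = f)
    {s : (Scheme.Modules.pullback f).obj Ω₃ ⟶ (Scheme.Modules.pullback i).obj Ω₁}
    (h₁ : IsDiff i d₁ f d₃ g₁ s) (h₂ : IsDiff i d₁ f d₃ g₂ s) : g₁ = g₂ := by
  haveI : Surjective i := PushThick28.surjective_of_nil i fun V => ⟨2, by
    rw [pow_two]
    exact congrArg (fun J : C.IdealSheafData => J.ideal V) hi⟩
  let N := (Scheme.Modules.pullback i).obj Ω₁
  have hcs : ∀ V, Function.Bijective (OmegaSh.conormalSect i V) := fun V => ExtThick23.bijective_conormalSect i hi V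
  let ι := fun {V : C.Opens} (l : Γ(ClSub.idealMod i.ker, V)) => M2.idealIncl i.ker l
  have hker : ∀ {V : C.Opens} (l : Γ(ClSub.idealMod i.ker, V)), i.app V (ι l) = 0 := fun {V} l => by
    refine ConormalBC19.app_eq_zero_of_eq (Scheme.Hom.toImage_imageι i) ?_
    rw [Scheme.Hom.comp_app, CommRingCat.comp_apply]
    show i.toImage.app _ (i.ker.subschemeι.app V (M2.idealIncl i.ker l)) = 0
    rw [M2.subschemeι_app_idealIncl, map_zero]
  let δ : ∀ V : C.Opens, Γ(C, V) → Γ(N, i ⁻¹ᵁ V) := fun V b => OmegaSh.pullSect i Ω₁ V (d₁.app V b)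
  have δadd : ∀ V a b, δ V (a + b) = δ V a + δ V b := fun V a b => by
    show OmegaSh.pullSect i Ω₁ V (d₁.app V (a + b)) = _
    rw [map_add]; exact map_add (OmegaSh.pullSect i Ω₁ V).hom _ _
  have δsub : ∀ V a b, δ V (a - b) = δ V a - δ V b := fun V a b => by
    rw [eq_sub_iff_add_eq, ← δadd, sub_add_cancel]
  have δmul : ∀ V a b, δ V (a * b) = i.app V a • δ V b + i.app V b • δ V a := fun V a b => by
    show OmegaSh.pullSect i Ω₁ V (d₁.app V (a * b)) = _
    rw [show d₁.app V (a * b) = a • d₁.app V b + b • d₁.app V a from d₁.d_mul _ _]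
    refine (map_add (OmegaSh.pullSect i Ω₁ V).hom _ _).trans ?_
    exact congrArg₂ (· + ·) (M2.pullSec_smul i Ω₁ _ _) (M2.pullSec_smul i Ω₁ _ _)
  have δres : ∀ {V W : C.Opens} (h : W ≤ V) b,
      δ W (C.presheaf.map (homOfLE h).op b) = M1.mres N (i.preimage_mono h) (δ V b) := fun {V W} h b => by
    show OmegaSh.pullSect i Ω₁ W (d₁.app W _) = _
    rw [show d₁.app W (C.presheaf.map (homOfLE h).op b) = M1.mres Ω₁ h (d₁.app V b) from d₁.d_map _ _]
    exact M1.app_mres ((Scheme.Modules.pullbackPushforwardAdjunction i).unit.app Ω₁) h _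
  have hbase : g₁.base = g₂.base := TopCat.hom_ext (ContinuousMap.ext fun x => by
    obtain ⟨y, rfl⟩ := i.surjective x
    show g₁ (i y) = g₂ (i y)
    rw [← Scheme.Hom.comp_apply, ← Scheme.Hom.comp_apply, hb₁, hb₂])
  refine Scheme.Hom.ext hbase fun U => ?_
  refine CommRingCat.hom_ext (RingHom.ext fun b => ?_)
  have hle : g₂ ⁻¹ᵁ U ≤ g₁ ⁻¹ᵁ U := fun x hx => by
    show g₁.base x ∈ U
    rw [hbase]; exact hx
  show C.presheaf.map (homOfLE hle).op (g₁.app U b) = g₂.app U b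
  have hh₁ : i ⁻¹ᵁ (g₁ ⁻¹ᵁ U) ≤ f ⁻¹ᵁ U := by subst hb₁; exact le_rfl
  have hh₂ : i ⁻¹ᵁ (g₂ ⁻¹ᵁ U) ≤ f ⁻¹ᵁ U := by subst hb₂; exact le_rfl
  obtain ⟨l, hl⟩ := GrMap12.exists_idealSect_of_app_eq_zero i
    (C.presheaf.map (homOfLE hle).op (g₁.app U b) - g₂.app U b) (by
      rw [map_sub, sub_eq_zero]
      have key : ∀ (p q : D ⟶ X) (_ : p = q) (W : D.Opens) (e : W ≤ p ⁻¹ᵁ U) (e' : W ≤ q ⁻¹ᵁ U),
          p.appLE U W e b = q.appLE U W e' b := by rintro p q rfl W e e'; rfl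
      have e := key (i ≫ g₁) (i ≫ g₂) (hb₁.trans hb₂.symm) ((i ≫ g₂) ⁻¹ᵁ U) (i.preimage_mono hle) le_rfl
      rw [← Scheme.Hom.app_eq_appLE, Scheme.Hom.comp_app, Scheme.Hom.appLE, Scheme.Hom.comp_app] at e
      refine Eq.trans ?_ e
      exact ConcreteCategory.congr_hom (i.naturality (homOfLE hle).op) (g₁.app U b))
  have h1 : φ.app (i ⁻¹ᵁ (g₂ ⁻¹ᵁ U)) (OmegaSh.conormalSect i _ l) = 0 := by
    rw [hφ _ l]
    show δ (g₂ ⁻¹ᵁ U) (ι l) = 0
    rw [show ι l = C.presheaf.map (homOfLE hle).op (g₁.app U b) - g₂.app U b from hl, δsub, δres hle,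
      show δ (g₁ ⁻¹ᵁ U) (g₁.app U b) = _ from (h₁ U b hh₁).symm,
      show δ (g₂ ⁻¹ᵁ U) (g₂.app U b) = _ from (h₂ U b hh₂).symm, M1.mres_mres, sub_self]
  have h2 : l = 0 := (hcs _).1 ((app_injective_of_mono φ _ _ h1).trans
    (map_zero (OmegaSh.conormalSect i _).hom).symm)
  rw [← sub_eq_zero, ← hl, h2]
  exact PicH1_21.idealIncl_zero _

end Groth.Agent.RibbonExt3
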